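import Groth.Agent.AmpleFinDescLib.Lift
import Groth.Agent.AmpleThLib.VeryAmple
import Groth.Agent.ChowLib.Embed
import Groth.Agent.PicPnLib.BaseChange
import Groth.Agent.CurveAmpLib.Affine
import Groth.Agent.EGA2SymLib.Coprod
import Groth.Agent.KFlatLib.PullTensor
import Mathlib.AlgebraicGeometry.Morphisms.Immersion
import Mathlib.AlgebraicGeometry.ZariskisMainTheorem

/-!
# Lifting from proper closed subschemes to sections with affine loci
-/

set_option autoImplicit false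
universe u

open CategoryTheory CategoryTheory.Limits AlgebraicGeometry TopologicalSpace Opposite
open AmpleLib (GenAt GenOn res)
open AmpleThLib (Gens genSet_iso mem_genSet_coeff exists_coeff tensorPow_isInvertible)
open TwistLib (genSet)
open KFlatLib (pb puSec)

noncomputable section

namespace AmpleFinDescLib

theorem exists_pair {A B : Scheme.{u}} (U : (A ⨿ B).Opens) (a : Γ(A, (coprod.inl : A ⟶ A ⨿ B) ⁻¹ᵁ U))
    (b : Γ(B, (coprod.inr : B ⟶ A ⨿ B) ⁻¹ᵁ U)) :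
    ∃ c, (coprod.inl : A ⟶ A ⨿ B).app U c = a ∧ (coprod.inr : B ⟶ A ⨿ B).app U c = b := by
  let E := (limit.isLimit (pair Γ(A, (coprod.inl : A ⟶ A ⨿ B) ⁻¹ᵁ U) Γ(B, (coprod.inr : B ⟶ A ⨿ B) ⁻¹ᵁ U))).conePointUniqueUpToIso
    (CommRingCat.prodFanIsLimit _ _)
  let e := Scheme.coprodPresheafObjIso U ≪≫ E
  have h1 : e.hom ≫ (CommRingCat.ofHom (RingHom.fst _ _)) = (coprod.inl : A ⟶ A ⨿ B).app U := by
    rw [← Scheme.coprodPresheafObjIso_hom_fst U]
    refine (Category.assoc _ _ _).trans (congrArg ((Scheme.coprodPresheafObjIso U).hom ≫ ·) ?_)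
    exact IsLimit.conePointUniqueUpToIso_hom_comp _ _ (Discrete.mk WalkingPair.left)
  have h2 : e.hom ≫ (CommRingCat.ofHom (RingHom.snd _ _)) = (coprod.inr : B ⟶ A ⨿ B).app U := by
    rw [← Scheme.coprodPresheafObjIso_hom_snd U]
    refine (Category.assoc _ _ _).trans (congrArg ((Scheme.coprodPresheafObjIso U).hom ≫ ·) ?_)
    exact IsLimit.conePointUniqueUpToIso_hom_comp _ _ (Discrete.mk WalkingPair.right)
  obtain ⟨c, hc⟩ := (ConcreteCategory.bijective_of_isIso e.hom).2 (a, b)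
  refine ⟨c, ?_, ?_⟩
  · exact (ConcreteCategory.congr_hom h1 c).symm.trans (congrArg Prod.fst hc)
  · exact (ConcreteCategory.congr_hom h2 c).symm.trans (congrArg Prod.snd hc)

theorem pair_ext {A B : Scheme.{u}} (U : (A ⨿ B).Opens) {c c' : Γ(A ⨿ B, U)}
    (hl : (coprod.inl : A ⟶ A ⨿ B).app U c = (coprod.inl : A ⟶ A ⨿ B).app U c')
    (hr : (coprod.inr : B ⟶ A ⨿ B).app U c = (coprod.inr : B ⟶ A ⨿ B).app U c') : c = c' := by
  let E := (limit.isLimit (pair Γ(A, (coprod.inl : A ⟶ A ⨿ B) ⁻¹ᵁ U) Γ(B, (coprod.inr : B ⟶ A ⨿ B) ⁻¹ᵁ U))).conePointUniqueUpToIso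
    (CommRingCat.prodFanIsLimit _ _)
  let e := Scheme.coprodPresheafObjIso U ≪≫ E
  apply (ConcreteCategory.bijective_of_isIso e.hom).1
  refine Prod.ext ?_ ?_
  · have h1 : e.hom ≫ (CommRingCat.ofHom (RingHom.fst _ _)) = (coprod.inl : A ⟶ A ⨿ B).app U := by
      rw [← Scheme.coprodPresheafObjIso_hom_fst U]
      refine (Category.assoc _ _ _).trans (congrArg ((Scheme.coprodPresheafObjIso U).hom ≫ ·) ?_)
      exact IsLimit.conePointUniqueUpToIso_hom_comp _ _ (Discrete.mk WalkingPair.left)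
    exact (ConcreteCategory.congr_hom h1 c).trans (hl.trans (ConcreteCategory.congr_hom h1 c').symm)
  · have h2 : e.hom ≫ (CommRingCat.ofHom (RingHom.snd _ _)) = (coprod.inr : B ⟶ A ⨿ B).app U := by
      rw [← Scheme.coprodPresheafObjIso_hom_snd U]
      refine (Category.assoc _ _ _).trans (congrArg ((Scheme.coprodPresheafObjIso U).hom ≫ ·) ?_)
      exact IsLimit.conePointUniqueUpToIso_hom_comp _ _ (Discrete.mk WalkingPair.right)
    exact (ConcreteCategory.congr_hom h2 c).trans (hr.trans (ConcreteCategory.congr_hom h2 c').symm)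

theorem nonempty_powCongr {A : Scheme.{u}} {L M : A.Modules} (e : L ≅ M) :
    ∀ n : ℕ, Nonempty (CohB1.tensorPow L n ≅ CohB1.tensorPow M n)
  | 0 => ⟨Iso.refl _⟩
  | n + 1 => by
    obtain ⟨i⟩ := nonempty_powCongr e n
    exact ⟨HilbPolyLib.congrLeft i L ≪≫ HilbPolyLib.congrRight _ e⟩

theorem app_comp_apply {A B C : Scheme.{u}} (f : A ⟶ B) (g : B ⟶ C) {W : C.Opens} (z : Γ(C, W)) :
    (f ≫ g).app W z = f.app (g ⁻¹ᵁ W) (g.app W z) := rfl

theorem app_desc_inl {A B C : Scheme.{u}} (f : A ⟶ C) (g : B ⟶ C) {W : C.Opens} (z : Γ(C, W)) :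
    (coprod.inl : A ⟶ A ⨿ B).app _ ((coprod.desc f g).app W z) =
      A.presheaf.map (eqToHom (by rw [← Scheme.Hom.comp_preimage, coprod.inl_desc])).op (f.app W z) := by
  rw [← app_comp_apply, Scheme.Hom.congr_app (coprod.inl_desc f g) W]
  rfl

theorem app_desc_inr {A B C : Scheme.{u}} (f : A ⟶ C) (g : B ⟶ C) {W : C.Opens} (z : Γ(C, W)) :
    (coprod.inr : B ⟶ A ⨿ B).app _ ((coprod.desc f g).app W z) =
      B.presheaf.map (eqToHom (by rw [← Scheme.Hom.comp_preimage, coprod.inr_desc])).op (g.app W z) := by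
  rw [← app_comp_apply, Scheme.Hom.congr_app (coprod.inr_desc f g) W]
  rfl

/-- **Sections lift from a proper closed subscheme, with affine loci.** -/
theorem exists_lift_affine {R : Type u} [CommRing R] [IsNoetherianRing R] {X T : Scheme.{u}}
    (q : X ⟶ Spec (CommRingCat.of R)) [LocallyOfFiniteType q] [IsSeparated q] [QuasiCompact q]
    {L : X.Modules} (hL : PicF.IsInvertible L) (hA : CohB1.IsAmple L) (ι : T ⟶ X) [IsClosedImmersion ι]
    [IsProper (ι ≫ q)] :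
    ∃ d, 0 < d ∧ ∃ k₀, ∀ k, k₀ ≤ k → ∀ t : Γ(pb ι (CohB1.tensorPow L (d * k)), ⊤),
      ∃ τ : Γ(CohB1.tensorPow L (d * k), ⊤),
        puSec ι τ = t ∧ IsAffineOpen (genSet (tensorPow_isInvertible hL (d * k)) τ) := by
  obtain ⟨n₀, hn₀⟩ := AmpleThLib.eventually_veryAmple q hL hA
  obtain ⟨m, j, hj, hjq, ⟨φ⟩⟩ := hn₀ (n₀ + 1) (Nat.le_succ _)
  haveI := hj
  let S := Spec (CommRingCat.of R)
  let b : CohB1.ProjSpaceOver m S ⟶ S := CohB1.ProjSpaceOver.toBase m S
  haveI : IsProper b := ChowLib.isProper_toBase m S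
  have hjb : j ≫ b = q := hjq
  haveI : QuasiCompact j := by
    haveI : QuasiCompact (j ≫ b) := by rw [hjb]; infer_instance
    exact QuasiCompact.of_comp j b
  let O1 := Twist.twistOver m S 1
  have hO1 : PicF.IsInvertible O1 := PicPnLib.twistOver_inv m S 1
  have hO1A : CohB1.IsAmple O1 := AmpleThLib.isAmple_of_isRelVeryAmplePn b hO1
    ⟨m, 𝟙 _, inferInstance, Category.id_comp _, ⟨((Scheme.Modules.pullbackId _).app _).symm⟩⟩
  let P := j.image
  let pP : P ⟶ S := j.imageι ≫ b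
  let M := pb j.imageι O1
  have hM : PicF.IsInvertible M := AmpleDevLib.isInvertible_pb _ hO1
  have hMA : CohB1.IsAmple M := AmpleDevLib.isAmple_pb j.imageι hO1 hO1A
  let ω := j.toImage
  haveI : IsOpenImmersion ω := inferInstance
  have hωq : ω ≫ pP = q := by
    show j.toImage ≫ j.imageι ≫ b = q
    rw [← Category.assoc, j.toImage_imageι, hjb]
  haveI : IsClosedImmersion (ι ≫ ω) := by
    haveI : IsProper ((ι ≫ ω) ≫ pP) := by rw [Category.assoc, hωq]; infer_instance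
    haveI : IsProper (ι ≫ ω) := IsProper.of_comp (ι ≫ ω) pP
    exact (IsClosedImmersion.iff_isProper_and_mono (ι ≫ ω)).mpr ⟨inferInstance, inferInstance⟩
  let Bd : Closeds P := ⟨(Set.range ω)ᶜ, ω.opensRange.2.isClosed_compl⟩
  let β := (Scheme.IdealSheafData.vanishingIdeal Bd).subschemeι
  have hβ : Set.range β = (Set.range ω)ᶜ := by
    rw [Scheme.IdealSheafData.range_subschemeι, Scheme.IdealSheafData.coe_support_vanishingIdeal]
    rfl
  let i := coprod.desc (ι ≫ ω) β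
  haveI : IsClosedImmersion i := EGA2SymLib.isClosedImmersion_coprodDesc _ _ fun x y e =>
    (hβ.le ⟨y, rfl⟩) ⟨ι x, e⟩
  obtain ⟨k₀, hlift⟩ := exists_lift pP hM hMA i
  let d := n₀ + 1
  refine ⟨d, Nat.succ_pos _, k₀ + 1, fun k hk t => ?_⟩
  -- the comparison of the powers
  let N := CohB1.tensorPow M k
  have hN := tensorPow_isInvertible hM k
  let ψ : pb ω M ≅ CohB1.tensorPow L d :=
    (Scheme.Modules.pullbackComp ω j.imageι).app O1 ≪≫ (Scheme.Modules.pullbackCongr j.toImage_imageι).app O1 ≪≫ φ.symm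
  obtain ⟨χ, -⟩ := AmpleDevLib.exists_pullPowIso ω hM k
  obtain ⟨π, -⟩ := AmpleThLib.exists_powIso hL d k
  have hψ := AmpleDevLib.isInvertible_pb ω hM
  obtain ⟨θ₀⟩ := nonempty_powCongr ψ k
  let θ : pb ω N ≅ CohB1.tensorPow L (d * k) := χ ≪≫ θ₀ ≪≫ π
  let t' : Γ(pb ι (pb ω N), ⊤) := ((Scheme.Modules.pullback ι).map θ.inv).app ⊤ t
  let e : ∀ a : Gens N, Γ(pb ι (pb ω N), ι ⁻¹ᵁ (ω ⁻¹ᵁ a.1)) := fun a => puSec ι (puSec ω a.2.1)
  have he : ∀ a, GenOn (pb ι (pb ω N)) (e a) := fun a =>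
    AmpleDevLib.puSec_genOn ι (AmpleDevLib.puSec_genOn ω a.2.2)
  choose c₁ hc₁ using fun a : Gens N => exists_coeff t' (he a)
  have hpl : ∀ U : P.Opens, (coprod.inl : T ⟶ T ⨿ _) ⁻¹ᵁ (i ⁻¹ᵁ U) = ι ⁻¹ᵁ (ω ⁻¹ᵁ U) := fun U => by
    rw [← Scheme.Hom.comp_preimage, coprod.inl_desc]; rfl
  choose c hcl hcr using fun a : Gens N => exists_pair (i ⁻¹ᵁ a.1)
    (T.presheaf.map (eqToHom (hpl a.1)).op (c₁ a))
    (0 : Γ((Scheme.IdealSheafData.vanishingIdeal Bd).subscheme, (coprod.inr : _ ⟶ T ⨿ _) ⁻¹ᵁ (i ⁻¹ᵁ a.1)))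
  have hc : Compat i N c := fun a b r hr => by
    have hrel : res _ (ι.preimage_mono (ω.preimage_mono (inf_le_right : a.1 ⊓ b.1 ≤ b.1))) (e b) =
        ι.app _ (ω.app _ r) • res _ (ι.preimage_mono (ω.preimage_mono (inf_le_left : a.1 ⊓ b.1 ≤ a.1))) (e a) := by
      simp only [e]
      rw [← TwistLib.puSec_res ι (ω.preimage_mono (inf_le_right : a.1 ⊓ b.1 ≤ b.1)),
        ← TwistLib.puSec_res ω (inf_le_right : a.1 ⊓ b.1 ≤ b.1), ← hr, TwistLib.puSec_smul, TwistLib.puSec_smul,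
        TwistLib.puSec_res, TwistLib.puSec_res]
    have hkey : T.presheaf.map (homOfLE (ι.preimage_mono (ω.preimage_mono (inf_le_left : a.1 ⊓ b.1 ≤ a.1)))).op (c₁ a) =
        ι.app _ (ω.app _ r) *
          T.presheaf.map (homOfLE (ι.preimage_mono (ω.preimage_mono (inf_le_right : a.1 ⊓ b.1 ≤ b.1)))).op (c₁ b) := by
      refine ((he a).res (ι.preimage_mono (ω.preimage_mono (inf_le_left : a.1 ⊓ b.1 ≤ a.1))) _ le_rfl).1 ?_
      dsimp only
      rw [AmpleLib.res_refl]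
      refine ((AmpleLib.res_smul (pb ι (pb ω N)) _ (c₁ a) _).symm.trans (congrArg (res _ _) (hc₁ a))).trans ?_
      rw [AmpleLib.res_res, mul_comm, mul_smul, ← hrel, ← AmpleLib.res_smul, hc₁ b, AmpleLib.res_res]
    refine pair_ext _ ?_ ?_
    · rw [map_mul, app_desc_inl]
      refine ((ConcreteCategory.congr_hom ((coprod.inl : T ⟶ T ⨿ _).naturality
        (homOfLE (i.preimage_mono (inf_le_left : a.1 ⊓ b.1 ≤ a.1))).op) (c a))).trans ?_
      refine Eq.trans ?_ (congrArg (_ * ·) (ConcreteCategory.congr_hom ((coprod.inl : T ⟶ T ⨿ _).naturality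
        (homOfLE (i.preimage_mono (inf_le_right : a.1 ⊓ b.1 ≤ b.1))).op) (c b)).symm)
      change T.presheaf.map _ ((coprod.inl : T ⟶ T ⨿ _).app _ (c a)) = _ * T.presheaf.map _ ((coprod.inl : T ⟶ T ⨿ _).app _ (c b))
      rw [hcl, hcl]
      have h9 := congrArg (T.presheaf.map (eqToHom (hpl (a.1 ⊓ b.1))).op) hkey
      simp only [map_mul, res, ← CommRingCat.comp_apply, ← Functor.map_comp] at h9 ⊢
      exact h9
    · rw [map_mul, app_desc_inr]
      refine ((ConcreteCategory.congr_hom ((coprod.inr : _ ⟶ T ⨿ _).naturality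
        (homOfLE (i.preimage_mono (inf_le_left : a.1 ⊓ b.1 ≤ a.1))).op) (c a))).trans ?_
      refine Eq.trans ?_ (congrArg (_ * ·) (ConcreteCategory.congr_hom ((coprod.inr : _ ⟶ T ⨿ _).naturality
        (homOfLE (i.preimage_mono (inf_le_right : a.1 ⊓ b.1 ≤ b.1))).op) (c b)).symm)
      change (Scheme.IdealSheafData.vanishingIdeal Bd).subscheme.presheaf.map _ ((coprod.inr : _ ⟶ T ⨿ _).app _ (c a)) =
        _ * (Scheme.IdealSheafData.vanishingIdeal Bd).subscheme.presheaf.map _ ((coprod.inr : _ ⟶ T ⨿ _).app _ (c b))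
      rw [hcr, hcr, map_zero, map_zero, mul_zero]
  obtain ⟨σ, hσ⟩ := hlift k (Nat.le_of_succ_le hk) c hc
  refine ⟨θ.hom.app ⊤ (puSec ω σ), ?_, ?_⟩
  · have h1 : puSec ι (puSec ω σ) = t' := by
      refine TopCat.Sheaf.eq_of_locally_eq' ((QCohLib.toAbF T).obj (pb ι (pb ω N)) : TopCat.Sheaf AddCommGrpCat _)
        (fun a : Gens N => ι ⁻¹ᵁ (ω ⁻¹ᵁ a.1)) ⊤ (fun a => homOfLE le_top) (fun x _ => by
          obtain ⟨a, ha⟩ := AmpleThLib.gens_cover hN (ω (ι x))
          exact Opens.mem_iSup.mpr ⟨a, ha⟩) _ _ fun a => ?_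
      obtain ⟨d, hd⟩ := exists_coeff σ a.2.2
      have h2 : res (pb ι (pb ω N)) (le_top : ι ⁻¹ᵁ (ω ⁻¹ᵁ a.1) ≤ ⊤) (puSec ι (puSec ω σ)) =
          ι.app _ (ω.app _ d) • e a := by
        have h3 := congrArg (fun z => puSec ι (puSec ω z)) hd
        simp only [TwistLib.puSec_smul, TwistLib.puSec_res] at h3
        exact h3.symm
      have h4 : ι.app _ (ω.app _ d) = c₁ a := by
        have h5 := congrArg ((coprod.inl : T ⟶ T ⨿ _).app _) (hσ a d hd)
        rw [app_desc_inl, hcl] at h5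
        exact (ConcreteCategory.bijective_of_isIso (T.presheaf.map (eqToHom (hpl a.1)).op)).1 h5
      exact h2.trans ((congrArg (· • e a) h4).trans (hc₁ a))
    refine (KFlatLib.puSec_natural (f := ι) θ.hom (puSec ω σ)).symm.trans ?_
    rw [h1]
    have h6 := congrArg (fun f => (Scheme.Modules.Hom.app f ⊤) t) ((Scheme.Modules.pullback ι).mapIso θ).inv_hom_id
    exact h6
  · have hg : genSet (tensorPow_isInvertible hL (d * k)) (θ.hom.app ⊤ (puSec ω σ)) = ω ⁻¹ᵁ genSet hN σ :=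
      (genSet_iso (AmpleDevLib.isInvertible_pb ω hN) _ θ _).trans (AmpleDevLib.genSet_puSec ω hN σ)
    rw [hg]
    have hsub : genSet hN σ ≤ ω.opensRange := fun p hp => by
      by_contra hpr
      obtain ⟨w, rfl⟩ := hβ.ge hpr
      obtain ⟨a, ha⟩ := AmpleThLib.gens_cover hN (β w)
      obtain ⟨d, hd⟩ := exists_coeff σ a.2.2
      have h5 := congrArg ((coprod.inr : _ ⟶ T ⨿ _).app _) (hσ a d hd)
      rw [app_desc_inr, hcr] at h5
      have h6 : β.app a.1 d = 0 :=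
        (ConcreteCategory.bijective_of_isIso ((Scheme.IdealSheafData.vanishingIdeal Bd).subscheme.presheaf.map _)).1
          (h5.trans (map_zero _).symm)
      have hmem : β w ∈ P.basicOpen d := (mem_genSet_coeff hN σ a.2.2 hd).le ⟨hp, ha⟩
      have : w ∈ β ⁻¹ᵁ P.basicOpen d := hmem
      rw [Scheme.preimage_basicOpen, h6, Scheme.basicOpen_zero] at this
      exact this
    exact (CurveAmpLib.isAffineOpen_genSet pP hN
      ((AmpleThLib.isAmple_tensorPow_iff hM (show 0 < k from Nat.lt_of_lt_of_le (Nat.succ_pos k₀) hk)).mp hMA)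
      σ).preimage_of_isOpenImmersion ω hsub

end AmpleFinDescLib
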