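import Groth.Agent.AmpleFinDescLib.Compactify
import Groth.Agent.AmpleThLib.FiniteSet
import Groth.Agent.AmpleDescLib.Main
import Groth.Agent.ProperOverLib.Basic
import Groth.Agent.CohCmpLib.UnitFibre
import Groth.Agent.ChevLib.Main
import Groth.Agent.NormDescLib.Basic

/-!
# Ampleness descends along finite maps which are isomorphisms away from a proper closed subset
-/

set_option autoImplicit false
universe u

open CategoryTheory CategoryTheory.Limits AlgebraicGeometry TopologicalSpace Opposite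
open AmpleLib (GenAt GenOn res)
open AmpleThLib (genSet_iso mem_genSet_coeff exists_coeff tensorPow_isInvertible pS pS_genOn pS_res pS_smul
  IsLocus exists_locus_le)
open TwistLib (genSet)
open KFlatLib (pb puSec)
open NormDescLib (rs)

noncomputable section

namespace AmpleFinDescLib

variable {X X1 : Scheme.{u}} (h : X1 ⟶ X)

theorem app_injective [IsReduced X] [Surjective h] (U : X.Opens) : Function.Injective (h.app U) := by
  intro a b e
  refine sub_eq_zero.mp (eq_zero_of_basicOpen_eq_bot _ (eq_bot_iff.mpr fun x hx => ?_))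
  obtain ⟨y, rfl⟩ := h.surjective x
  have hy : y ∈ h ⁻¹ᵁ X.basicOpen (a - b) := hx
  rw [Scheme.preimage_basicOpen, map_sub, e, sub_self, Scheme.basicOpen_zero] at hy
  exact hy

theorem bijective_app_of_isIso {W D : X.Opens} (hi : IsIso (h ∣_ W)) (hD : D ≤ W) :
    Function.Bijective (h.app D) := by
  have he : W.ι ''ᵁ (W.ι ⁻¹ᵁ D) = D := by
    rw [Scheme.Hom.image_preimage_eq_opensRange_inf, Scheme.Opens.opensRange_ι, inf_eq_right]
    exact hD
  have h1 : IsIso ((h ∣_ W).app (W.ι ⁻¹ᵁ D)) := inferInstance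
  rw [morphismRestrict_app] at h1
  have h2 : IsIso (h.app (W.ι ''ᵁ (W.ι ⁻¹ᵁ D))) := 
    @IsIso.of_isIso_comp_right _ _ _ _ _ (h.app (W.ι ''ᵁ (W.ι ⁻¹ᵁ D)))
      (X1.presheaf.map (eqToHom (image_morphismRestrict_preimage h W (W.ι ⁻¹ᵁ D))).op) inferInstance h1
  rw [he] at h2
  exact ConcreteCategory.bijective_of_isIso (h.app D)

/-- The conductor of a finite map on the sections over an open. -/
def cond (U : X.Opens) : Ideal Γ(X, U) where
  carrier := {a | ∀ b : Γ(X1, h ⁻¹ᵁ U), h.app U a * b ∈ Set.range (h.app U)}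
  zero_mem' := fun b => ⟨0, by rw [map_zero, zero_mul]⟩
  add_mem' := fun {a a'} ha ha' b => by
    obtain ⟨c, hc⟩ := ha b
    obtain ⟨c', hc'⟩ := ha' b
    exact ⟨c + c', by rw [map_add, map_add, add_mul, hc, hc']⟩
  smul_mem' := fun r a ha b => by
    obtain ⟨c, hc⟩ := ha b
    exact ⟨r * c, by rw [smul_eq_mul, map_mul, map_mul, mul_assoc, hc]⟩

theorem mem_radical_cond [IsFinite h] {U : X.Opens} (hU : IsAffineOpen U) {W : X.Opens} (hi : IsIso (h ∣_ W))
    (a : Γ(X, U)) (ha : X.basicOpen a ≤ W) : a ∈ (cond h U).radical := by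
  classical
  have hle : X.basicOpen a ≤ U := X.basicOpen_le a
  let U1 := h ⁻¹ᵁ U
  have hU1 : IsAffineOpen U1 := hU.preimage h
  let D1 := h ⁻¹ᵁ X.basicOpen a
  have key : ∀ b : Γ(X1, U1), ∃ n : ℕ, h.app U a ^ n * b ∈ Set.range (h.app U) := fun b => by
    letI := (X.presheaf.map (homOfLE hle).op).hom.toAlgebra
    haveI : IsLocalization.Away a Γ(X, X.basicOpen a) := hU.isLocalization_of_eq_basicOpen a (homOfLE hle) rfl
    letI := (X1.presheaf.map (homOfLE (h.preimage_mono hle : D1 ≤ U1)).op).hom.toAlgebra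
    haveI : IsLocalization.Away (h.app U a) Γ(X1, D1) :=
      hU1.isLocalization_of_eq_basicOpen _ (homOfLE (h.preimage_mono hle)) (Scheme.preimage_basicOpen h a)
    obtain ⟨a', ha'⟩ := (bijective_app_of_isIso h hi ha).2 (rs (h.preimage_mono hle) b)
    obtain ⟨n, c, hc⟩ := IsLocalization.Away.surj a a'
    have hnat : ∀ z, h.app _ (rs hle z) = rs (h.preimage_mono hle) (h.app U z) := fun z =>
      ConcreteCategory.congr_hom (h.naturality (homOfLE hle).op) z
    have h1 : algebraMap Γ(X1, U1) Γ(X1, D1) (h.app U c) = algebraMap _ _ (h.app U a ^ n * b) := by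
      change rs (h.preimage_mono hle) (h.app U c) = rs (h.preimage_mono hle) (h.app U a ^ n * b)
      rw [← hnat c]
      have h2 := congrArg (h.app (X.basicOpen a)) hc
      rw [map_mul, map_pow, ha'] at h2
      refine h2.symm.trans ?_
      change rs _ b * h.app _ (rs hle a) ^ n = _
      rw [hnat a]
      simp only [rs, map_mul, map_pow]
      exact mul_comm _ _
    obtain ⟨⟨_, m, rfl⟩, hm⟩ := (IsLocalization.eq_iff_exists (.powers (h.app U a)) Γ(X1, D1)).mp h1
    refine ⟨m + n, a ^ m * c, ?_⟩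
    rw [map_mul, map_pow]
    exact hm.trans (by ring)
  algebraize [(h.app U).hom]
  haveI : Module.Finite Γ(X, U) Γ(X1, U1) := h.finite_app U hU
  obtain ⟨r, s, hs⟩ := Module.Finite.exists_fin (R := Γ(X, U)) (M := Γ(X1, U1))
  choose n hn using fun j => key (s j)
  refine ⟨∑ j, n j, fun b => ?_⟩
  have hb : b ∈ Submodule.span Γ(X, U) (Set.range s) := hs ▸ Submodule.mem_top
  rw [map_pow]
  induction hb using Submodule.span_induction with
  | mem b hb =>
    obtain ⟨j, rfl⟩ := hb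
    obtain ⟨k, hk⟩ : ∃ k, ∑ i, n i = k + n j := ⟨_, (Nat.sub_add_cancel
      (Finset.single_le_sum (fun i _ => Nat.zero_le (n i)) (Finset.mem_univ j))).symm⟩
    obtain ⟨c, hc⟩ := hn j
    exact ⟨a ^ k * c, by rw [map_mul, map_pow, hc, hk, pow_add, mul_assoc]⟩
  | zero => exact ⟨0, by rw [map_zero, mul_zero]⟩
  | add b b' _ _ hb hb' =>
    obtain ⟨c, hc⟩ := hb
    obtain ⟨c', hc'⟩ := hb'
    exact ⟨c + c', by rw [map_add, mul_add, hc, hc']⟩
  | smul r b _ hb =>
    obtain ⟨c, hc⟩ := hb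
    refine ⟨r * c, ?_⟩
    rw [map_mul, hc, Algebra.smul_def]
    exact mul_left_comm _ _ _

theorem notMem_of_mem_vanishingIdeal (Zc : Closeds X) (U : X.affineOpens) {a : Γ(X, U.1)}
    (ha : a ∈ (Scheme.IdealSheafData.vanishingIdeal Zc).ideal U) {x : X} (hx : x ∈ X.basicOpen a) :
    x ∉ Zc := fun hxZ => by
  have h1 : x ∈ ((Scheme.IdealSheafData.vanishingIdeal Zc).support : Set X) := by
    rw [Scheme.IdealSheafData.coe_support_vanishingIdeal]
    exact hxZ
  have h2 := (Scheme.IdealSheafData.mem_support_iff_of_mem (X.basicOpen_le a hx)).mp h1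
  exact (X.mem_zeroLocus_iff _ x).mp h2 a ha hx

theorem exists_conductor_pow [IsFinite h] [IsLocallyNoetherian X] {Zc : Closeds X}
    (hi : IsIso (h ∣_ Zc.compl)) (U : X.affineOpens) :
    ∃ N, (Scheme.IdealSheafData.vanishingIdeal Zc).ideal U ^ N ≤ cond h U.1 := by
  haveI := IsLocallyNoetherian.component_noetherian (X := X) U
  exact Ideal.exists_pow_le_of_le_radical_of_fg
    (fun a ha => mem_radical_cond h U.2 hi a fun x hx => notMem_of_mem_vanishingIdeal Zc U ha hx)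
    (IsNoetherian.noetherian _)

/-- Elements of the extended conductor ideal descend. -/
theorem mem_range_of_mem_map {U : X.Opens} {J : Ideal Γ(X, U)} (hJ : J ≤ cond h U) {b : Γ(X1, h ⁻¹ᵁ U)}
    (hb : b ∈ J.map (h.app U).hom) (b' : Γ(X1, h ⁻¹ᵁ U)) : b * b' ∈ Set.range (h.app U) := by
  induction hb using Submodule.span_induction generalizing b' with
  | mem b hb =>
    obtain ⟨a, ha, rfl⟩ := hb
    exact hJ ha b'
  | zero => exact ⟨0, by rw [map_zero, zero_mul]⟩
  | add b c _ _ hb hc =>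
    obtain ⟨x, hx⟩ := hb b'
    obtain ⟨y, hy⟩ := hc b'
    exact ⟨x + y, by rw [map_add, add_mul, hx, hy]⟩
  | smul r b _ hb =>
    obtain ⟨x, hx⟩ := hb (r * b')
    exact ⟨x, by rw [hx, smul_eq_mul, mul_comm r b, mul_assoc]⟩

theorem mem_radical_map [IsAffineHom h] (Zc : Closeds X) (U : X.affineOpens) (b : Γ(X1, h ⁻¹ᵁ U.1))
    (hb : X1.basicOpen b ≤ h ⁻¹ᵁ Zc.compl) :
    b ∈ (((Scheme.IdealSheafData.vanishingIdeal Zc).ideal U).map (h.app U.1).hom).radical := by
  rw [Ideal.radical_eq_sInf, Submodule.mem_sInf]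
  rintro P ⟨hle, hP⟩
  by_contra hbP
  have hU1 : IsAffineOpen (h ⁻¹ᵁ U.1) := U.2.preimage h
  let p := hU1.fromSpec ⟨P, hP⟩
  have hmem : ∀ f : Γ(X1, h ⁻¹ᵁ U.1), p ∈ X1.basicOpen f ↔ f ∉ P := fun f =>
    SetLike.ext_iff.mp (hU1.fromSpec_preimage_basicOpen f) ⟨P, hP⟩
  have hpU : h p ∈ U.1 := hU1.range_fromSpec.le (Set.mem_range_self _)
  refine hb ((hmem b).mpr hbP) ?_
  have h1 : h p ∈ ((Scheme.IdealSheafData.vanishingIdeal Zc).support : Set X) := by
    refine (Scheme.IdealSheafData.mem_support_iff_of_mem hpU).mpr ((X.mem_zeroLocus_iff _ _).mpr fun a ha hpa => ?_)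
    have : p ∈ h ⁻¹ᵁ X.basicOpen a := hpa
    rw [Scheme.preimage_basicOpen] at this
    exact (hmem _).mp this (hle (Ideal.mem_map_of_mem _ ha))
  rw [Scheme.IdealSheafData.coe_support_vanishingIdeal] at h1
  exact h1

theorem eq_zero_of_puSec [IsReduced X] [Surjective h] {M : X.Modules} {U : X.Opens} {e : Γ(M, U)}
    (he : GenOn M e) {V : X.Opens} (hV : V ≤ U) (m : Γ(M, V)) (hm : puSec h m = 0) : m = 0 := by
  obtain ⟨d, rfl⟩ := (he V hV).2 m
  dsimp only at hm ⊢
  have h1 : h.app V d = 0 := by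
    refine ((AmpleDevLib.puSec_genOn h (he.res hV)) _ le_rfl).1 ?_
    dsimp only
    rw [AmpleLib.res_refl, zero_smul, ← TwistLib.puSec_smul]
    exact hm
  rw [(app_injective h V) (h1.trans (map_zero (h.app V).hom).symm), zero_smul]

theorem puSec_sub {M : X.Modules} {U : X.Opens} (m m' : Γ(M, U)) :
    puSec h (m - m') = puSec h m - puSec h m' :=
  map_sub (((Scheme.Modules.pullbackPushforwardAdjunction h).unit.app M).app U).hom m m'

/-- Sections with descending coefficients descend. -/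
theorem exists_desc [IsReduced X] [Surjective h] {M : X.Modules} (σ1 : Γ(pb h M, ⊤))
    (hloc : ∀ x : X, ∃ (U : X.Opens) (e : Γ(M, U)) (a : Γ(X, U)), x ∈ U ∧ GenOn M e ∧
      h.app U a • puSec h e = res (pb h M) le_top σ1) :
    ∃ σ : Γ(M, ⊤), puSec h σ = σ1 := by
  choose U e a hxU he ha using hloc
  have hcov : (⊤ : X.Opens) ≤ ⨆ x, U x := fun x _ => Opens.mem_iSup.mpr ⟨x, hxU x⟩
  obtain ⟨σ, hσ, -⟩ := TopCat.Sheaf.existsUnique_gluing' (Coh.toAb M) U ⊤ (fun x => homOfLE le_top) hcov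
    (fun x => a x • e x) fun x y => by
      change res M (inf_le_left : U x ⊓ U y ≤ U x) _ = res M (inf_le_right : U x ⊓ U y ≤ U y) _
      refine sub_eq_zero.mp (eq_zero_of_puSec h (he x) inf_le_left _ ?_)
      rw [puSec_sub, sub_eq_zero, TwistLib.puSec_res h, TwistLib.puSec_res h, TwistLib.puSec_smul,
        TwistLib.puSec_smul, ha, ha, AmpleLib.res_res, AmpleLib.res_res]
  refine ⟨σ, TopCat.Sheaf.eq_of_locally_eq' ((QCohLib.toAbF X1).obj (pb h M) : TopCat.Sheaf AddCommGrpCat _)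
    (fun x => h ⁻¹ᵁ U x) ⊤ (fun x => homOfLE le_top) (fun z _ => Opens.mem_iSup.mpr ⟨h z, hxU (h z)⟩) _ _
    fun x => ?_⟩
  have h1 := congrArg (puSec h) (show res M (le_top : U x ≤ ⊤) σ = a x • e x from hσ x)
  rw [TwistLib.puSec_res h, TwistLib.puSec_smul, ha] at h1
  exact h1

theorem isAffineOpen_of_preimage [IsFinite h] [Surjective h] {V : X.Opens} (hV : IsAffineOpen (h ⁻¹ᵁ V)) :
    IsAffineOpen V := by
  haveI : IsAffine (h ⁻¹ᵁ V).toScheme := hV
  haveI : IsFinite (h ∣_ V) := IsZariskiLocalAtTarget.restrict ‹IsFinite h› V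
  haveI : Surjective (h ∣_ V) := IsZariskiLocalAtTarget.restrict ‹Surjective h› V
  exact ChevLib.isAffine_of_surjective_universallyClosed (h ∣_ V)

/-- The comparison of two ways around a square. -/
def sqPb {T T1 : Scheme.{u}} {g : T1 ⟶ T} {ι : T ⟶ X} {ι1 : T1 ⟶ X1} (w : g ≫ ι = ι1 ≫ h) (M : X.Modules) :
    pb g (pb ι M) ≅ pb ι1 (pb h M) :=
  (Scheme.Modules.pullbackComp g ι).app M ≪≫ (Scheme.Modules.pullbackCongr w).app M ≪≫
    ((Scheme.Modules.pullbackComp ι1 h).app M).symm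

theorem sqPb_puSec {T T1 : Scheme.{u}} {g : T1 ⟶ T} {ι : T ⟶ X} {ι1 : T1 ⟶ X1} (w : g ≫ ι = ι1 ≫ h)
    (M : X.Modules) {U : X.Opens} (m : Γ(M, U)) {V : T1.Opens} (hV : V ≤ g ⁻¹ᵁ (ι ⁻¹ᵁ U))
    (hV' : V ≤ ι1 ⁻¹ᵁ (h ⁻¹ᵁ U)) :
    (sqPb h w M).hom.app V (res _ hV (puSec g (puSec ι m))) = res _ hV' (puSec ι1 (puSec h m)) := by
  refine (congrArg (((Scheme.Modules.pullbackComp ι1 h).inv.app M).app V ∘
    ((Scheme.Modules.pullbackCongr w).hom.app M).app V) ((QCohLib.app_map
      ((Scheme.Modules.pullbackComp g ι).hom.app M) (homOfLE hV) _).trans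
      (congrArg (res _ hV) (CohCmpLib.pullbackComp_puSec g ι M m)))).trans ?_
  refine (congrArg (((Scheme.Modules.pullbackComp ι1 h).inv.app M).app V)
    (CohCmpLib.pullbackCongr_puSec w M m hV hV')).trans ?_
  exact (QCohLib.app_map ((Scheme.Modules.pullbackComp ι1 h).inv.app M) (homOfLE hV') _).trans
    (congrArg (res _ hV') (CohCmpLib.pullbackComp_inv_puSec ι1 h M m))

variable {R : Type u} [CommRing R] [IsNoetherianRing R]

/-- **Ampleness descends along finite surjections which are isomorphisms away from a proper closed subset.** -/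
theorem isAmple_of_finite_birational (q : X ⟶ Spec (CommRingCat.of R)) [LocallyOfFiniteType q] [IsSeparated q]
    [QuasiCompact q] [IsReduced X] [IsFinite h] [Surjective h] (Z : Set X) (hZ : ClSub.IsProperOver q Z)
    (hi : IsIso (h ∣_ (⟨Zᶜ, hZ.1.isOpen_compl⟩ : X.Opens))) {L : X.Modules} (hL : PicF.IsInvertible L)
    (hA : CohB1.IsAmple (pb h L)) : CohB1.IsAmple L := by
  classical
  haveI : IsLocallyNoetherian X := LocallyOfFiniteType.isLocallyNoetherian q
  haveI : CompactSpace X := QuasiCompact.compactSpace_of_compactSpace q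
  haveI : CompactSpace X1 := hA.2.1
  haveI := AmpleThLib.quasiSeparatedSpace_of_isAmple hA
  have hL1 : PicF.IsInvertible (pb h L) := AmpleDevLib.isInvertible_pb h hL
  let Zc : Closeds X := ⟨Z, hZ.1⟩
  let I := Scheme.IdealSheafData.vanishingIdeal Zc
  have hfr : ∀ x : X, ∃ (U : X.affineOpens) (e : Γ(L, U.1)), x ∈ U.1 ∧ GenOn L e := fun x => by
    obtain ⟨U, e, hxU, he⟩ := TwistLib.exists_genOn hL x
    obtain ⟨V, hV, hxV, hVU⟩ := exists_isAffineOpen_mem_and_subset hxU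
    exact ⟨⟨V, hV⟩, res L hVU e, hxV, he.res hVU⟩
  choose U e hxU he using hfr
  obtain ⟨s, hs⟩ := isCompact_univ.elim_finite_subcover (fun x => ((U x).1 : Set X)) (fun x => (U x).1.2)
    fun x _ => Set.mem_iUnion.mpr ⟨x, hxU x⟩
  have hcov : ∀ y : X, ∃ x ∈ s, y ∈ (U x).1 := fun y => by simpa using hs (Set.mem_univ y)
  choose N hN using fun x => exists_conductor_pow h (Zc := Zc) hi (U x)
  let N' := ∑ x ∈ s, N x
  let J := I ^ (N' + 1)
  have hJ : ∀ x ∈ s, J.ideal (U x) ≤ cond h (U x).1 := fun x hx => by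
    refine le_trans ?_ (hN x)
    rw [Scheme.IdealSheafData.ideal_pow, Pi.pow_apply]
    exact Ideal.pow_le_pow_right ((Finset.single_le_sum (fun i _ => Nat.zero_le (N i)) hx).trans (Nat.le_succ _))
  let ι := J.subschemeι
  have hι : Set.range ι = Z := by
    rw [Scheme.IdealSheafData.range_subschemeι, Scheme.IdealSheafData.support_pow_succ,
      Scheme.IdealSheafData.coe_support_vanishingIdeal]
    rfl
  haveI : IsProper (ι ≫ q) := ProperOverLib.isProper_comp_closedImmersion hZ ι hι.le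
  let ι1 := (J.comap h).subschemeι
  let g : (J.comap h).subscheme ⟶ J.subscheme := (J.comapIso h).hom ≫ pullback.snd h ι
  have w : g ≫ ι = ι1 ≫ h := by
    rw [Category.assoc, ← pullback.condition, ← Category.assoc, Scheme.IdealSheafData.comapIso_hom_fst]
  haveI : IsFinite g := MorphismProperty.comp_mem _ _ _ inferInstance inferInstance
  haveI : Surjective g := inferInstance
  haveI : IsProper (ι1 ≫ h ≫ q) := by
    rw [← Category.assoc, ← w, Category.assoc]
    infer_instance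
  haveI : IsSeparated (h ≫ q) := inferInstance
  obtain ⟨d, hd, k₀, hlift⟩ := exists_lift_affine (h ≫ q) hL1 hA ι1
  have hLT : PicF.IsInvertible (pb ι L) := AmpleDevLib.isInvertible_pb ι hL
  have hAT : CohB1.IsAmple (pb ι L) := by
    refine AmpleDescLib.isAmple_of_isAmple_pullback (ι ≫ q) g hLT ?_
    exact AmpleDevLib.isAmple_of_iso (AmpleDevLib.isInvertible_pb ι1 hL1) (AmpleDevLib.isInvertible_pb g hLT)
      (sqPb h w L).symm (AmpleDevLib.isAmple_pb ι1 hL1 hA)
  -- descended sections with affine loci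
  have fin : ∀ (m : ℕ) (σ : Γ(CohB1.tensorPow L m, ⊤)) (σ1 : Γ(pb h (CohB1.tensorPow L m), ⊤)),
      puSec h σ = σ1 →
      IsAffineOpen (genSet (AmpleDevLib.isInvertible_pb h (tensorPow_isInvertible hL m)) σ1) →
      IsAffineOpen (genSet (tensorPow_isInvertible hL m) σ) := fun m σ σ1 hσ haff => by
    subst hσ
    rw [AmpleDevLib.genSet_puSec h (tensorPow_isInvertible hL m)] at haff
    exact isAffineOpen_of_preimage h haff
  refine (AmpleThLib.isAmple_iff (hL := hL)).mpr ⟨inferInstance, fun x => ?_⟩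
  by_cases hx : x ∈ Z
  · -- near the proper closed subset
    obtain ⟨x0, rfl⟩ : x ∈ Set.range ι := hι ▸ hx
    obtain ⟨n, V, hn, hV, hx0V, -⟩ := ((AmpleThLib.isAmple_iff (hL := hLT)).mp hAT).2 x0
    obtain ⟨k, hk, hm⟩ : ∃ k, k₀ ≤ k ∧ n * (d * (k₀ + 1)) = d * k :=
      ⟨n * (k₀ + 1), (Nat.le_succ k₀).trans (Nat.le_mul_of_pos_left _ hn), by ring⟩
    have hm0 : 0 < d * k := hm ▸ Nat.mul_pos hn (Nat.mul_pos hd (Nat.succ_pos _))
    obtain ⟨t₀, rfl⟩ : IsLocus hLT (d * k) V := hm ▸ hV.mul_right (Nat.mul_pos hd (Nat.succ_pos _))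
    let M := CohB1.tensorPow L (d * k)
    have hM : PicF.IsInvertible M := tensorPow_isInvertible hL _
    obtain ⟨φ, -⟩ := AmpleDevLib.exists_pullPowIso ι hL (d * k)
    let t : Γ(pb ι M, ⊤) := φ.inv.app ⊤ t₀
    have ht : x0 ∈ genSet (AmpleDevLib.isInvertible_pb ι hM) t := by
      exact (genSet_iso (tensorPow_isInvertible hLT (d * k)) (AmpleDevLib.isInvertible_pb ι hM) φ.symm t₀).ge hx0V
    obtain ⟨χ, -⟩ := AmpleDevLib.exists_pullPowIso h hL (d * k)
    let t1 : Γ(pb ι1 (pb h M), ⊤) := (sqPb h w M).hom.app ⊤ (puSec g t)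
    obtain ⟨τ, hτ, hτaff⟩ := hlift k hk (((Scheme.Modules.pullback ι1).map χ.hom).app ⊤ t1)
    let σ1 : Γ(pb h M, ⊤) := χ.inv.app ⊤ τ
    have hσ1 : puSec ι1 σ1 = t1 := by
      refine (KFlatLib.puSec_natural (f := ι1) χ.inv τ).symm.trans ?_
      rw [hτ]
      exact congrArg (fun f => (Scheme.Modules.Hom.app f ⊤) t1) ((Scheme.Modules.pullback ι1).mapIso χ).hom_inv_id
    obtain ⟨σ, hσ⟩ := exists_desc h σ1 fun y => by
      obtain ⟨z, hz, hyz⟩ := hcov y
      let f : Γ(M, (U z).1) := pS (e z) (d * k)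
      have hf : GenOn M f := pS_genOn (he z) _
      obtain ⟨b, hb⟩ := exists_coeff σ1 (AmpleDevLib.puSec_genOn h hf)
      obtain ⟨c, hc⟩ := exists_coeff t (AmpleDevLib.puSec_genOn ι hf)
      obtain ⟨a₀, ha₀⟩ := ι.app_surjective _ (U z).2 c
      have hle : ι1 ⁻¹ᵁ (h ⁻¹ᵁ (U z).1) ≤ g ⁻¹ᵁ (ι ⁻¹ᵁ (U z).1) := by
        rw [← Scheme.Hom.comp_preimage, ← Scheme.Hom.comp_preimage, w]
      have hker : ι1.app (h ⁻¹ᵁ (U z).1) b = ι1.app (h ⁻¹ᵁ (U z).1) (h.app _ a₀) := by
        refine ((AmpleDevLib.puSec_genOn ι1 (AmpleDevLib.puSec_genOn h hf)) _ le_rfl).1 ?_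
        dsimp only
        rw [AmpleLib.res_refl]
        have h1 := congrArg (puSec ι1) hb
        rw [TwistLib.puSec_smul, TwistLib.puSec_res ι1, hσ1] at h1
        refine h1.trans ?_
        have h2 := congrArg (puSec g) hc
        rw [← ha₀, TwistLib.puSec_smul, TwistLib.puSec_res g] at h2
        have h3 := congrArg ((sqPb h w M).hom.app _) (congrArg (res _ hle) h2)
        rw [AmpleLib.res_smul, Scheme.Modules.Hom.app_smul, sqPb_puSec h w M f hle le_rfl,
          AmpleLib.res_refl, AmpleLib.res_res] at h3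
        refine ((QCohLib.app_map (sqPb h w M).hom (homOfLE le_top) (puSec g t)).symm.trans h3.symm).trans ?_
        refine congrArg (· • _) ?_
        have h4 : g.appLE (ι ⁻¹ᵁ (U z).1) _ hle (ι.app _ a₀) =
            ι1.appLE (h ⁻¹ᵁ (U z).1) _ le_rfl (h.app _ a₀) := by
          rw [← CommRingCat.comp_apply, ← CommRingCat.comp_apply, Scheme.Hom.app_eq_appLE,
            Scheme.Hom.app_eq_appLE, Scheme.Hom.appLE_comp_appLE, Scheme.Hom.appLE_comp_appLE]
          simp only [w]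
        rw [Scheme.Hom.app_eq_appLE ι1]
        refine Eq.trans ?_ h4
        rw [Scheme.Hom.appLE]
        rfl
      have hmem : b - h.app _ a₀ ∈ (J.ideal (U z)).map (h.app (U z).1).hom := by
        rw [← ChevLib.ideal_comap_of_isAffineHom J h (U z), ← Scheme.IdealSheafData.ker_subschemeι_app,
          RingHom.mem_ker, map_sub, sub_eq_zero]
        exact hker
      obtain ⟨a₁, ha₁⟩ := mem_range_of_mem_map h (hJ z hz) hmem 1
      refine ⟨_, f, a₁ + a₀, hyz, hf, ?_⟩
      rw [map_add, ha₁, mul_one, sub_add_cancel]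
      exact hb
    refine ⟨d * k, _, hm0, ⟨σ, rfl⟩, ?_, fin _ σ σ1 hσ ?_⟩
    · obtain ⟨y, rfl⟩ := g.surjective x0
      have h1 : y ∈ genSet (AmpleDevLib.isInvertible_pb g (AmpleDevLib.isInvertible_pb ι hM)) (puSec g t) := by
        rw [AmpleDevLib.genSet_puSec g (AmpleDevLib.isInvertible_pb ι hM)]
        exact ht
      rw [← genSet_iso (AmpleDevLib.isInvertible_pb g (AmpleDevLib.isInvertible_pb ι hM))
        (AmpleDevLib.isInvertible_pb ι1 (AmpleDevLib.isInvertible_pb h hM)) (sqPb h w M)] at h1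
      change y ∈ genSet _ t1 at h1
      rw [← hσ1, AmpleDevLib.genSet_puSec ι1 (AmpleDevLib.isInvertible_pb h hM), ← hσ,
        AmpleDevLib.genSet_puSec h hM] at h1
      have h2 : h (ι1 y) = ι (g y) := by
        rw [← Scheme.Hom.comp_apply, ← Scheme.Hom.comp_apply, w]
      exact h2 ▸ h1
    · have h9 := genSet_iso (tensorPow_isInvertible hL1 (d * k)) (AmpleDevLib.isInvertible_pb h hM) χ.symm τ
      exact h9 ▸ hτaff
  · -- away from it
    obtain ⟨x1, rfl⟩ := h.surjective x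
    obtain ⟨n, V, hn, ⟨σ₀, rfl⟩, hx1, hVaff, hVW⟩ :=
      exists_locus_le hL1 hA (W := h ⁻¹ᵁ (⟨Zᶜ, hZ.1.isOpen_compl⟩ : X.Opens)) (x := x1) hx
    let M := CohB1.tensorPow L n
    have hM : PicF.IsInvertible M := tensorPow_isInvertible hL n
    obtain ⟨χ₀, -⟩ := AmpleDevLib.exists_pullPowIso h hL n
    let σ1 : Γ(pb h M, ⊤) := χ₀.inv.app ⊤ σ₀
    have hg1 : genSet (AmpleDevLib.isInvertible_pb h hM) σ1 = genSet (tensorPow_isInvertible hL1 n) σ₀ :=
      genSet_iso _ _ χ₀.symm σ₀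
    have hm : ∀ z, ∃ m : ℕ, ∃ b, b • puSec h (pS (e z) n) = res (pb h M) le_top σ1 ∧
        ∀ z' ∈ s, z' = z → ∀ K, m ≤ K → b ^ K ∈ Set.range (h.app (U z).1) := fun z => by
      obtain ⟨b, hb⟩ := exists_coeff σ1 (AmpleDevLib.puSec_genOn h (pS_genOn (he z) n))
      have hbW : X1.basicOpen b ≤ h ⁻¹ᵁ Zc.compl := fun p hp =>
        hVW (hg1.le ((mem_genSet_coeff (AmpleDevLib.isInvertible_pb h hM) σ1
          (AmpleDevLib.puSec_genOn h (pS_genOn (he z) n)) hb).ge hp).1)
      obtain ⟨m, hm⟩ := mem_radical_map h Zc (U z) b hbW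
      refine ⟨m * (N' + 1), b, hb, fun z' hz' hzz K hK => ?_⟩
      subst hzz
      obtain ⟨k, rfl⟩ := Nat.exists_eq_add_of_le hK
      have : (b ^ m) ^ (N' + 1) ∈ (J.ideal (U z')).map (h.app (U z').1).hom := by
        rw [Scheme.IdealSheafData.ideal_pow, Pi.pow_apply, Ideal.map_pow]
        exact Ideal.pow_mem_pow hm _
      rw [pow_add, pow_mul]
      exact mem_range_of_mem_map h (hJ z' hz') this _
    choose m b hb hrange using hm
    let K := ∑ z ∈ s, m z + 1
    obtain ⟨χ, hχ⟩ := AmpleDevLib.exists_pullPowIso h hM K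
    let σK : Γ(pb h (CohB1.tensorPow M K), ⊤) := χ.inv.app ⊤ (pS σ1 K)
    obtain ⟨π, -⟩ := AmpleThLib.exists_powIso hL n K
    obtain ⟨σ, hσ⟩ := exists_desc h σK fun y => by
      obtain ⟨z, hz, hyz⟩ := hcov y
      let f := pS (e z) n
      have hf : GenOn M f := pS_genOn (he z) n
      obtain ⟨a, ha⟩ := hrange z z hz rfl K ((Finset.single_le_sum (fun i _ => Nat.zero_le (m i)) hz).trans (Nat.le_succ _))
      refine ⟨_, pS f K, a, hyz, pS_genOn hf K, ?_⟩
      rw [ha]
      have h1 : res _ (le_top : h ⁻¹ᵁ (U z).1 ≤ ⊤) (pS σ1 K) = b z ^ K • pS (puSec h f) K := by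
        rw [pS_res, ← hb, pS_smul]
      have h2 := hχ ⟨_, f, hf⟩
      refine ((ConcreteCategory.bijective_of_isIso (χ.hom.app (h ⁻¹ᵁ (U z).1))).1 ?_)
      rw [Scheme.Modules.Hom.app_smul, h2, ← h1]
      refine Eq.trans ?_ (QCohLib.app_map χ.hom (homOfLE le_top) σK).symm
      exact congrArg (res _ _) (congrArg (fun f => (Scheme.Modules.Hom.app f ⊤) (pS σ1 K)) χ.inv_hom_id).symm
    refine ⟨n * K, genSet (tensorPow_isInvertible hL (n * K)) (π.hom.app ⊤ σ), Nat.mul_pos hn (Nat.succ_pos _),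
      ⟨_, rfl⟩, ?_⟩
    rw [genSet_iso (tensorPow_isInvertible hM K) _ π σ]
    have hgen : h ⁻¹ᵁ genSet (tensorPow_isInvertible hM K) σ = genSet (tensorPow_isInvertible hL1 n) σ₀ := by
      rw [← AmpleDevLib.genSet_puSec h (tensorPow_isInvertible hM K), hσ, ← hg1,
        ← AmpleThLib.genSet_pS (AmpleDevLib.isInvertible_pb h hM) σ1 (Nat.succ_pos (∑ z ∈ s, m z))]
      exact genSet_iso _ _ χ.symm _
    exact ⟨hgen.ge hx1, isAffineOpen_of_preimage h (hgen ▸ hVaff)⟩

end AmpleFinDescLib
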