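import Groth.Agent.NormDescLib.FreeLocal
import Groth.Agent.NormDescLib.FinLocFree
import Groth.Agent.NormDescLib.Glue
import Groth.Agent.NormDescLib.Relative
import Groth.Agent.FlatLib.QStalk

/-!
# Free stalks of finite algebras, and base change to the reduction
-/

set_option autoImplicit false
universe u

open CategoryTheory CategoryTheory.Limits AlgebraicGeometry TopologicalSpace Opposite
open NormDescLib (HasBasis)

noncomputable section

namespace AmpleFinDescLib

variable {X' X : Scheme.{u}} (g : X' ⟶ X)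

/-- A free stalk of a finite algebra gives a basis nearby. -/
theorem exists_hasBasis_of_free_stalk [IsLocallyNoetherian X] [IsFinite g] (x : X)
    (hx : Module.Free (X.presheaf.stalk x) (((Coh.push g).obj (Coh.structureModule X')).presheaf.stalk x)) :
    ∃ (D : X.Opens) (n : ℕ), IsAffineOpen D ∧ x ∈ D ∧ HasBasis (g.app D).hom n := by
  let M : X.Modules := (Scheme.Modules.pushforward g).obj (Coh.structureModule X')
  haveI : Coh.IsQCoh M := @QCohLib.isQCoh_pushforward _ _ g _ _ _ QCohLib.isQCoh_unit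
  obtain ⟨U, hU, hxU, -⟩ := exists_isAffineOpen_mem_and_subset (x := x) (U := (⊤ : X.Opens)) trivial
  have hV := hU.preimage g
  haveI := IsLocallyNoetherian.component_noetherian (X := X) ⟨U, hU⟩
  letI : Algebra Γ(X, U) Γ(X', g ⁻¹ᵁ U) := (g.app U).hom.toAlgebra
  haveI : Module.Finite Γ(X, U) Γ(X', g ⁻¹ᵁ U) := g.finite_app U hU
  haveI : Module.FinitePresentation Γ(X, U) Γ(X', g ⁻¹ᵁ U) := Module.finitePresentation_of_finite _ _
  let q := hU.primeIdealOf ⟨x, hxU⟩
  letI : Algebra Γ(X, U) (X.presheaf.stalk x) := (X.presheaf.germ U x hxU).hom.toAlgebra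
  haveI : IsLocalization.AtPrime (X.presheaf.stalk x) q.asIdeal := hU.isLocalization_stalk ⟨x, hxU⟩
  letI := Module.compHom (M.presheaf.stalk x) (X.presheaf.germ U x hxU).hom
  haveI : IsScalarTower Γ(X, U) (X.presheaf.stalk x) (M.presheaf.stalk x) :=
    IsScalarTower.of_algebraMap_smul fun _ _ => rfl
  haveI : IsLocalizedModule q.asIdeal.primeCompl (FlatLib.germLin M hxU) :=
    FlatLib.isLocalizedModule_germLin M hU hxU
  let e : Γ(X', g ⁻¹ᵁ U) ≃ₗ[Γ(X, U)] Γ(M, U) :=
    { toFun := fun a => a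
      invFun := fun a => a
      left_inv := fun _ => rfl
      right_inv := fun _ => rfl
      map_add' := fun _ _ => rfl
      map_smul' := fun _ _ => rfl }
  haveI : Module.Free (Localization.AtPrime q.asIdeal) (LocalizedModule q.asIdeal.primeCompl Γ(X', g ⁻¹ᵁ U)) := by
    have h1 : q ∈ Module.freeLocus Γ(X, U) Γ(M, U) :=
      (Module.mem_freeLocus_of_isLocalization q (X.presheaf.stalk x) (M.presheaf.stalk x)
        (FlatLib.germLin M hxU)).mpr hx
    rw [← Module.freeLocus_congr e] at h1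
    exact h1
  obtain ⟨r, hr, hloc⟩ := NormDescLib.exists_hasBasis_away_of_free (A := Γ(X, U)) (B := Γ(X', g ⁻¹ᵁ U)) q
  refine ⟨X.basicOpen r, _, hU.basicOpen r, ?_, hloc _ _ _ _ (X.presheaf.map (homOfLE (X.basicOpen_le r)).op).hom
      (X'.presheaf.map (homOfLE (g.preimage_mono (X.basicOpen_le r))).op).hom _
      (RingHom.ext fun a => NormDescLib.app_rs (X.basicOpen_le r) a)
      (hU.isLocalization_of_eq_basicOpen r (homOfLE (X.basicOpen_le r)) rfl)
      (hV.isLocalization_of_eq_basicOpen _ (homOfLE (g.preimage_mono (X.basicOpen_le r)))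
        (Scheme.preimage_basicOpen g r))⟩
  have hmem : q ∈ hU.fromSpec ⁻¹ᵁ X.basicOpen r := by
    rw [hU.fromSpec_preimage_basicOpen]
    exact hr
  have h : hU.fromSpec q ∈ X.basicOpen r := hmem
  rwa [hU.fromSpec_primeIdealOf ⟨x, hxU⟩] at h

theorem flat_restrict_of_hasBasis [IsAffineHom g] {D : X.Opens} (hD : IsAffineOpen D) {n : ℕ}
    (hb : HasBasis (g.app D).hom n) : Flat (g ∣_ D) := by
  haveI : IsAffine D.toScheme := hD
  haveI : IsAffine (g ⁻¹ᵁ D).toScheme := hD.preimage g
  rw [HasRingHomProperty.iff_of_isAffine (P := @Flat), Scheme.Hom.appTop, morphismRestrict_app]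
  have h1 : (g.app D).hom.Flat := by
    letI := (g.app D).hom.toAlgebra
    obtain ⟨b⟩ := (hb : Nonempty (Module.Basis (Fin n) Γ(X, D) Γ(X', g ⁻¹ᵁ D)))
    haveI := Module.Free.of_basis b
    show Module.Flat Γ(X, D) Γ(X', g ⁻¹ᵁ D)
    infer_instance
  refine RingHom.Flat.comp (f := (g.app (D.ι ''ᵁ ⊤)).hom) ?_ (RingHom.Flat.of_bijective
    (f := (X'.presheaf.map (eqToHom (image_morphismRestrict_preimage g D ⊤)).op).hom)
    (ConcreteCategory.bijective_of_isIso _))
  exact (Scheme.Opens.ι_image_top D).symm ▸ h1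

/-- Bases nearby pass to base changes along closed immersions. -/
theorem exists_hasBasis_pullback [IsFinite g] {Xr : Scheme.{u}} (i : Xr ⟶ X) [IsClosedImmersion i]
    [IsLocallyNoetherian Xr] {z : Xr} {D : X.Opens} (hD : IsAffineOpen D) (hz : i z ∈ D) {n : ℕ}
    (hb : HasBasis (g.app D).hom n) :
    ∃ (D' : Xr.Opens) (m : ℕ), IsAffineOpen D' ∧ z ∈ D' ∧ HasBasis ((pullback.snd g i).app D').hom m := by
  let snd := pullback.snd g i
  let Di := i ⁻¹ᵁ D
  haveI := flat_restrict_of_hasBasis g hD hb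
  have hout : IsPullback ((snd ⁻¹ᵁ Di).ι ≫ pullback.fst g i) (snd ∣_ Di) g ((i ∣_ D) ≫ D.ι) := by
    rw [morphismRestrict_ι]
    exact (isPullback_morphismRestrict snd Di).flip.paste_horiz (IsPullback.of_hasPullback g i)
  have hsq := IsPullback.of_right' hout (isPullback_morphismRestrict g D).flip
  haveI : Flat (snd ∣_ Di) := MorphismProperty.of_isPullback hsq ‹Flat (g ∣_ D)›
  haveI : IsFinite (snd ∣_ Di) := IsZariskiLocalAtTarget.restrict (inferInstance : IsFinite snd) Di
  haveI : LocallyOfFinitePresentation (snd ∣_ Di) :=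
    LocallyOfFinitePresentation.iff_locallyOfFiniteType.mpr inferInstance
  obtain ⟨E, hE, hzE, hbE⟩ := NormDescLib.exists_hasBasis (snd ∣_ Di) ⟨z, hz⟩
  refine ⟨Di.ι ''ᵁ E, (snd ∣_ Di).finrank ⟨z, hz⟩, hE.image_of_isOpenImmersion Di.ι, ⟨⟨z, hz⟩, hzE, rfl⟩, ?_⟩
  rw [morphismRestrict_app] at hbE
  exact NormDescLib.hasBasis_congr (RingHom.id _)
    ((pullback g i).presheaf.map (eqToHom (image_morphismRestrict_preimage snd Di E).symm).op).hom
    Function.bijective_id (ConcreteCategory.bijective_of_isIso _)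
    (RingHom.ext fun a => (ConcreteCategory.congr_hom
      (show (pullback g i).presheaf.map (eqToHom (image_morphismRestrict_preimage snd Di E)).op ≫
          (pullback g i).presheaf.map (eqToHom (image_morphismRestrict_preimage snd Di E).symm).op = 𝟙 _ by
        rw [← Functor.map_comp, ← op_comp, eqToHom_trans, eqToHom_refl, op_id, CategoryTheory.Functor.map_id])
      (snd.app (Di.ι ''ᵁ E) a)).symm) hbE

end AmpleFinDescLib
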