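import Groth.Agent.CurveAmpLib.Affine
import Groth.Agent.MiscFlat6.RelAmpleLocal

/-!
# Loci of sections on universally closed schemes with an ample module are affine
-/

set_option autoImplicit false
universe u

open CategoryTheory CategoryTheory.Limits AlgebraicGeometry TopologicalSpace Opposite
open AmpleLib (res GenAt GenOn)
open AmpleThLib (IsLocus tensorPow_isInvertible)
open TwistLib (genSet)

noncomputable section

namespace AmpleFinDescLib

theorem exists_locus_cover {X : Scheme.{u}} {L : X.Modules} (hL : PicF.IsInvertible L) (hA : CohB1.IsAmple L) :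
    ∃ (n m : ℕ) (v : Fin m → Γ(CohB1.tensorPow L n, ⊤)), 0 < n ∧
      (∀ k, IsAffineOpen (genSet (tensorPow_isInvertible hL n) (v k))) ∧
      ∀ x, ∃ k, x ∈ genSet (tensorPow_isInvertible hL n) (v k) := by
  classical
  obtain ⟨hc, hloc⟩ := (AmpleThLib.isAmple_iff (hL := hL)).mp hA
  choose d V hd hV hxV haff using hloc
  obtain ⟨t, ht⟩ := isCompact_univ.elim_finite_subcover (fun x => (V x : Set X)) (fun x => (V x).2)
    fun x _ => Set.mem_iUnion.mpr ⟨x, hxV x⟩
  let n := ∏ z ∈ t, d z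
  have hn : 0 < n := Finset.prod_pos fun z _ => hd z
  have hVn : ∀ z : t, IsLocus hL n (V z) := fun z => by
    obtain ⟨k, hk⟩ : d z ∣ n := Finset.dvd_prod_of_mem d z.2
    rw [hk]
    exact (hV z).mul_right (Nat.pos_of_ne_zero fun h0 => by rw [hk, h0, mul_zero] at hn; exact lt_irrefl 0 hn)
  choose σ hσ using hVn
  refine ⟨n, t.card, fun k => σ (t.equivFin.symm k), hn, fun k => ?_, fun x => ?_⟩
  · rw [hσ]
    exact haff _
  · obtain ⟨z, hz, hxz⟩ := Set.mem_iUnion₂.mp (ht (Set.mem_univ x))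
    exact ⟨t.equivFin ⟨z, hz⟩, by simp only [Equiv.symm_apply_apply, hσ]; exact hxz⟩

/-- Loci of sections of ample invertible modules on universally closed schemes over affine bases are affine. -/
theorem isAffineOpen_genSet_universallyClosed {R : Type u} [CommRing R] {X : Scheme.{u}}
    (q : X ⟶ Spec (CommRingCat.of R)) [UniversallyClosed q] {L : X.Modules} (hL : PicF.IsInvertible L)
    (hA : CohB1.IsAmple L) (σ : Γ(L, ⊤)) : IsAffineOpen (genSet hL σ) := by
  obtain ⟨n, m, v, hn, haff, hcov⟩ := exists_locus_cover hL hA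
  have hM := tensorPow_isInvertible hL n
  let v' : Fin (m + 1) → Γ(CohB1.tensorPow L n, ⊤) := Fin.cons (AmpleThLib.pS σ n) v
  obtain ⟨r, hrb, hpre, -⟩ := AmpleThLib.exists_toPA q hM v' fun x => by
    obtain ⟨k, hx⟩ := hcov x
    exact ⟨k.succ, hx⟩
  let p := AmpleThLib.baseA (CohB1.polyGrading m R)
  haveI : IsSeparated p := by simp only [p, AmpleThLib.baseA]; infer_instance
  haveI : UniversallyClosed (r ≫ p) := by rw [hrb]; infer_instance
  haveI : UniversallyClosed r := UniversallyClosed.of_comp_of_isSeparated r p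
  let D : Fin m → (Proj (CohB1.polyGrading m R)).Opens := fun k =>
    Proj.basicOpen (CohB1.polyGrading m R) (MvPolynomial.X k.succ)
  let E : (Proj (CohB1.polyGrading m R)).Opens := ⟨(Set.range r)ᶜ, r.isClosedMap.isClosed_range.isOpen_compl⟩
  have hcov' : ⨆ o : Option (Fin m), o.elim E D = ⊤ := top_le_iff.mp fun z _ => by
    by_cases hz : z ∈ Set.range r
    · obtain ⟨x, rfl⟩ := hz
      obtain ⟨k, hk⟩ := hcov x
      exact Opens.mem_iSup.mpr ⟨some k, (hpre k.succ).ge hk⟩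
    · exact Opens.mem_iSup.mpr ⟨none, hz⟩
  haveI : IsAffineHom r := by
    rw [IsZariskiLocalAtTarget.iff_of_iSup_eq_top (P := @IsAffineHom) _ hcov']
    rintro (_ | k)
    · haveI : IsEmpty (r ⁻¹ᵁ E : Scheme.{u}) := ⟨fun x => x.2 ⟨x.1, rfl⟩⟩
      show IsAffineHom (r ∣_ E)
      refine ⟨fun U hU => ?_⟩
      rw [show (r ∣_ E) ⁻¹ᵁ U = ⊥ from eq_bot_iff.mpr fun x _ => (IsEmpty.false x).elim]
      exact isAffineOpen_bot _
    · show IsAffineHom (r ∣_ D k)
      haveI : IsAffine (r ⁻¹ᵁ D k).toScheme := (hpre k.succ).symm ▸ haff k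
      haveI : IsAffine (D k).toScheme :=
        Proj.isAffineOpen_basicOpen _ _ (MvPolynomial.isHomogeneous_X R k.succ) one_pos
      infer_instance
  have h0 := (Proj.isAffineOpen_basicOpen (CohB1.polyGrading m R) _
    (MvPolynomial.isHomogeneous_X R (0 : Fin (m + 1))) one_pos).preimage r
  rw [hpre 0] at h0
  rwa [show v' 0 = AmpleThLib.pS σ n from rfl, AmpleThLib.genSet_pS hL σ hn] at h0

/-- The relative form. -/
theorem isAffineHom_genSet {X S : Scheme.{u}} (f : X ⟶ S) [UniversallyClosed f] {L : X.Modules}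
    (hR : RelAmple.IsRelAmple f L) (hL : PicF.IsInvertible L) (σ : Γ(L, ⊤)) :
    IsAffineHom ((genSet hL σ).ι ≫ f) := by
  refine ⟨fun V hV => ?_⟩
  haveI : UniversallyClosed (f ∣_ V) := IsZariskiLocalAtTarget.restrict ‹UniversallyClosed f› V
  have h1 := isAffineOpen_genSet_universallyClosed ((f ∣_ V) ≫ hV.isoSpec.hom)
    (AmpleDevLib.isInvertible_pb (f ⁻¹ᵁ V).ι hL)
    (AmpleDevLib.isAmple_of_iso (hR.2 ⟨V, hV⟩).1 (AmpleDevLib.isInvertible_pb (f ⁻¹ᵁ V).ι hL)
      ((Scheme.Modules.restrictFunctorIsoPullback (f ⁻¹ᵁ V).ι).app L) (hR.2 ⟨V, hV⟩))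
    (KFlatLib.puSec (f ⁻¹ᵁ V).ι σ)
  rw [AmpleDevLib.genSet_puSec (f ⁻¹ᵁ V).ι hL σ] at h1
  have h2 := h1.image_of_isOpenImmersion (f ⁻¹ᵁ V).ι
  rw [Scheme.Hom.image_preimage_eq_opensRange_inf, Scheme.Opens.opensRange_ι] at h2
  rw [← (genSet hL σ).ι.isAffineOpen_iff_of_isOpenImmersion, Scheme.Hom.comp_preimage,
    Scheme.Hom.image_preimage_eq_opensRange_inf, Scheme.Opens.opensRange_ι, inf_comm]
  exact h2

end AmpleFinDescLib
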