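import Groth.Agent.SerreVanLib.Converse
import Groth.Agent.AmpleDevLib.Pull

/-!
# Sections of high powers of an ample module lift from closed subschemes
-/

set_option autoImplicit false
universe u

open CategoryTheory CategoryTheory.Limits AlgebraicGeometry TopologicalSpace Opposite
open AmpleLib (shT GenAt GenOn res)
open AmpleThLib (Gens)
open QCohLib (toAbF structMap)

noncomputable section

namespace AmpleFinDescLib

/-- The coefficients of a section on a closed subscheme in the frames of a module. -/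
def Compat {T P : Scheme.{u}} (i : T ⟶ P) (N : P.Modules) (c : ∀ a : Gens N, Γ(T, i ⁻¹ᵁ a.1)) : Prop :=
  ∀ (a b : Gens N) (r : Γ(P, a.1 ⊓ b.1)),
    r • res N inf_le_left a.2.1 = res N inf_le_right b.2.1 →
      res (Coh.structureModule T) (i.preimage_mono (inf_le_left : a.1 ⊓ b.1 ≤ a.1)) (c a) =
        i.app (a.1 ⊓ b.1) r *
          (show Γ(T, i ⁻¹ᵁ (a.1 ⊓ b.1)) from
            res (Coh.structureModule T) (i.preimage_mono (inf_le_right : a.1 ⊓ b.1 ≤ b.1)) (c b))

/-- **Sections of high powers of an ample module lift from closed subschemes.** -/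
theorem exists_lift {R : Type u} [CommRing R] [IsNoetherianRing R] {P T : Scheme.{u}}
    (pP : P ⟶ Spec (CommRingCat.of R)) [IsProper pP] {M : P.Modules} (hM : PicF.IsInvertible M)
    (hA : CohB1.IsAmple M) (i : T ⟶ P) [IsClosedImmersion i] :
    ∃ k₀, ∀ k, k₀ ≤ k → ∀ c : ∀ a : Gens (CohB1.tensorPow M k), Γ(T, i ⁻¹ᵁ a.1),
      Compat i (CohB1.tensorPow M k) c → ∃ σ : Γ(CohB1.tensorPow M k, ⊤),
        ∀ (a : Gens (CohB1.tensorPow M k)) (d : Γ(P, a.1)), d • a.2.1 = res _ le_top σ → i.app a.1 d = c a := by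
  haveI : IsLocallyNoetherian P := LocallyOfFiniteType.isLocallyNoetherian pP
  let Q : P.Modules := (Scheme.Modules.pushforward i).obj (Coh.structureModule T)
  haveI : Coh.IsQCoh Q := @QCohLib.isQCoh_pushforward _ _ i _ _ _ (QCohLib.isQCoh_unit)
  haveI := QCohLib.epi_structMap i
  haveI : Coh.IsQCoh (Coh.structureModule P) := QCohLib.isQCoh_unit
  let q : Coh.structureModule P ⟶ Q := structMap i
  haveI : Coh.IsQCoh (kernel q) := QCohLib.isQCoh_kernel q
  have hK : Coh.IsCoh (kernel q) := QCohLib.isCoh_of_mono (kernel.ι q) (DevissLib.isCoh_structureModule P) ‹_›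
  obtain ⟨k₀, hk₀⟩ := SerreVanLib.exists_vanishing pP hM hA (kernel q) hK
  refine ⟨k₀, fun k hk c hc => ?_⟩
  let N := CohB1.tensorPow M k
  have hN : PicF.IsInvertible N := AmpleThLib.tensorPow_isInvertible hM k
  let T' := CohB1.tensorMod N Q
  let sec : ∀ a : Gens N, Γ(T', a.1) := fun a => shT a.2.1 (show Γ(Q, a.1) from c a)
  have hcomp : ∀ a b : Gens N, res T' (inf_le_left : a.1 ⊓ b.1 ≤ a.1) (sec a) = res T' inf_le_right (sec b) := by
    intro a b
    obtain ⟨r, hr⟩ := (a.2.2 (a.1 ⊓ b.1) inf_le_left).2 (res N inf_le_right b.2.1)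
    dsimp only at hr
    refine (AmpleLib.shT_res _ _ _).trans (Eq.trans ?_ (AmpleLib.shT_res _ _ _).symm)
    let cb : Γ(Q, a.1 ⊓ b.1) := res Q inf_le_right (show Γ(Q, b.1) from c b)
    have h1 : res Q (inf_le_left : a.1 ⊓ b.1 ≤ a.1) (show Γ(Q, a.1) from c a) = r • cb := hc a b r hr
    rw [h1, ← hr]
    have h4 := AmpleLib.shT_smul r 1 (res N (inf_le_left : a.1 ⊓ b.1 ≤ a.1) a.2.1) cb
    have h5 := AmpleLib.shT_smul 1 r (res N (inf_le_left : a.1 ⊓ b.1 ≤ a.1) a.2.1) cb
    rw [one_smul] at h4 h5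
    rw [mul_one] at h4
    rw [one_mul] at h5
    exact h5.trans h4.symm
  obtain ⟨t, ht, -⟩ := TopCat.Sheaf.existsUnique_gluing' (Coh.toAb T') (fun a : Gens N => a.1) ⊤
    (fun a => homOfLE le_top) (fun x _ => by
      obtain ⟨a, ha⟩ := AmpleThLib.gens_cover hN x
      exact Opens.mem_iSup.mpr ⟨a, ha⟩) sec hcomp
  let S : ShortComplex P.Modules := ShortComplex.mk (kernel.ι q) q (kernel.condition q)
  have hS : S.ShortExact :=
    { exact := ShortComplex.exact_of_f_is_kernel _ (kernelIsKernel q)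
      mono_f := inferInstanceAs (Mono (kernel.ι q))
      epi_g := inferInstanceAs (Epi q) }
  have hS' := CurvLib.shortExact_tensor_locFree (CurvLib.locFree_of_isInvertible hN) hS
  have h1 : Subsingleton (QCohLib.HU ((toAbF P).obj (CohB1.tensorMod N (kernel q))) 1 ⊤) :=
    @Function.Injective.subsingleton _ _ _
      (QCohLib.hEquiv (Coh.toAb (CohB1.tensorMod N (kernel q))) 1).symm.injective
      (SerreVanLib.subsingleton_HH_of_iso (KFlatLib.tensSwap (kernel q) N) 1 (hk₀ k hk 1 one_pos))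
  obtain ⟨σ', hσ'⟩ := @QCohLib.exists_lift_of_subsingleton _ ((S.map (CurvLib.tensorLeft' N)).map (toAbF P))
    (QCohLib.toAbF_shortExact hS') ⊤ h1 t
  let σ₁ : Γ(CohB1.tensorMod N (Coh.structureModule P), ⊤) := σ'
  obtain ⟨φ, hφi, hφ⟩ := SerreVanLib.exists_unit_iso N
  let σ : Γ(N, ⊤) := φ.app ⊤ σ₁
  have hσ : σ₁ = shT σ (show Γ(Coh.structureModule P, ⊤) from (1 : Γ(P, ⊤))) := by
    have h2 : φ.app ⊤ σ₁ = φ.app ⊤ (shT σ (show Γ(Coh.structureModule P, ⊤) from (1 : Γ(P, ⊤)))) := by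
      exact (one_smul Γ(P, ⊤) σ).symm.trans (hφ ⊤ σ _).symm
    have h3 := congrArg ((inv φ).app ⊤) h2
    rw [← ConcreteCategory.comp_apply, ← ConcreteCategory.comp_apply, ← Scheme.Modules.Hom.comp_app,
      IsIso.hom_inv_id] at h3
    exact h3
  refine ⟨σ, fun a d hd => ?_⟩
  let F := (CurvLib.tensorLeft' N).map q
  have h2 : F.app a.1 (res _ (le_top : a.1 ≤ ⊤) σ₁) = sec a :=
    ((QCohLib.app_map F (homOfLE (le_top : a.1 ≤ ⊤)) σ₁).trans (congrArg _ hσ')).trans (ht a)
  have h3 : res _ (le_top : a.1 ≤ ⊤) σ₁ = shT a.2.1 (show Γ(Coh.structureModule P, a.1) from d) := by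
    rw [hσ, AmpleLib.shT_res, ← hd]
    have e : res (Coh.structureModule P) (le_top : a.1 ≤ ⊤) (1 : Γ(P, ⊤)) = (1 : Γ(P, a.1)) :=
      map_one (P.presheaf.map (homOfLE le_top).op).hom
    rw [e]
    have h4 := AmpleLib.shT_smul d 1 a.2.1 (show Γ(Coh.structureModule P, a.1) from (1 : Γ(P, a.1)))
    have h5 := AmpleLib.shT_smul 1 d a.2.1 (show Γ(Coh.structureModule P, a.1) from (1 : Γ(P, a.1)))
    rw [one_smul] at h4 h5
    rw [mul_one] at h4
    rw [one_mul] at h5
    exact h4.trans (h5.symm.trans (congrArg (shT a.2.1) (mul_one d)))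
  have h2 := (congrArg (F.app a.1) h3).symm.trans h2
  have h6 : F.app a.1 (shT a.2.1 (show Γ(Coh.structureModule P, a.1) from d)) = shT a.2.1 (q.app a.1 d) :=
    KFlatLib.tensorBi_map₂_shTm N q a.2.1 d
  exact SerreVanLib.shT_gen_injective a.2.2 _ _ (h6.symm.trans h2)

end AmpleFinDescLib
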