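import Groth.Agent.AmpleFinDescLib.Descend
import Groth.Agent.AmpleFinDescLib.FreePoint
import Groth.Agent.NormModelLib.Main
import Groth.Agent.MiscFlat6.AmpleHomeo
import Groth.Agent.MiscFlat6.ReducedImage
import Groth.Agent.NormDescLib.Relative
import Groth.Agent.S9691

/-!
# Ampleness descends along finite surjections, normal or free away from a proper subset
-/

set_option autoImplicit false
universe u

open CategoryTheory CategoryTheory.Limits AlgebraicGeometry TopologicalSpace Opposite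
open KFlatLib (pb)
open NormDescLib (HasBasis)

noncomputable section

namespace AmpleFinDescLib

/-- Normal or, near the point, free. -/
def GoodAt {X' X : Scheme.{u}} (g : X' ⟶ X) (x : X) : Prop :=
  (IsDomain (X.presheaf.stalk x) ∧ IsIntegrallyClosed (X.presheaf.stalk x)) ∨
    ∃ (D : X.Opens) (n : ℕ), IsAffineOpen D ∧ x ∈ D ∧ HasBasis (g.app D).hom n

theorem good_transfer {A B : Type u} [CommRing A] [CommRing B] (e : A ≃+* B)
    (h : IsDomain A ∧ IsIntegrallyClosed A) : IsDomain B ∧ IsIntegrallyClosed B := by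
  haveI := h.1
  haveI := h.2
  haveI : IsDomain B := MulEquiv.isDomain A e.symm.toMulEquiv
  exact ⟨inferInstance, IsIntegrallyClosed.of_equiv e⟩

theorem bijective_stalkMap_nilradical {X : Scheme.{u}} (z : X.nilradical.subscheme)
    [IsDomain (X.presheaf.stalk (X.nilradical.subschemeι z))] :
    Function.Bijective (X.nilradical.subschemeι.stalkMap z) := by
  let i := X.nilradical.subschemeι
  refine ⟨(injective_iff_map_eq_zero (i.stalkMap z).hom).mpr fun a ha => ?_, i.stalkMap_surjective z⟩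
  obtain ⟨W, hzW, s, rfl⟩ := X.presheaf.exists_germ_eq (x := i z) a
  have h1 : X.nilradical.subscheme.presheaf.germ (i ⁻¹ᵁ W) z hzW (i.app W s) =
      X.nilradical.subscheme.presheaf.germ (i ⁻¹ᵁ W) z hzW 0 := by
    rw [map_zero, ← Scheme.Hom.germ_stalkMap_apply i W z hzW s]
    exact ha
  obtain ⟨O, hzO, i₁, i₂, hO⟩ := X.nilradical.subscheme.presheaf.germ_eq z hzW hzW _ _ h1
  obtain ⟨O', hO', rfl⟩ : ∃ O' : X.Opens, IsOpen (O' : Set X) ∧ i ⁻¹ᵁ O' = O := by
    obtain ⟨t, ht, hte⟩ := i.isClosedEmbedding.isInducing.isOpen_iff.mp O.2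
    exact ⟨⟨t, ht⟩, ht, Opens.ext hte⟩
  obtain ⟨D, hD, hzD, hDle⟩ := exists_isAffineOpen_mem_and_subset (x := i z) (U := O' ⊓ W) ⟨hzO, hzW⟩
  have hDW : D ≤ W := fun y hy => (hDle hy).2
  have hDO : D ≤ O' := fun y hy => (hDle hy).1
  have h2 : i.app D (X.presheaf.map (homOfLE hDW).op s) = 0 := by
    have h3 := congrArg (X.nilradical.subscheme.presheaf.map
      (homOfLE (i.preimage_mono hDO)).op) hO
    rw [map_zero, map_zero, ← CommRingCat.comp_apply, ← Functor.map_comp] at h3
    exact (ConcreteCategory.congr_hom (i.naturality (homOfLE hDW).op) s).trans h3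
  have h4 : X.presheaf.map (homOfLE hDW).op s ∈ X.nilradical.ideal ⟨D, hD⟩ := by
    rw [← Scheme.IdealSheafData.ker_subschemeι_app, RingHom.mem_ker]
    exact h2
  obtain ⟨n, hn⟩ : IsNilpotent (X.presheaf.map (homOfLE hDW).op s) := h4
  have h5 : IsNilpotent (X.presheaf.germ W (i z) hzW s) := ⟨n, by
    rw [← TopCat.Presheaf.germ_res_apply X.presheaf (homOfLE hDW) (i z) hzD s,
      ← map_pow, hn, map_zero]⟩
  exact h5.eq_zero

/-- **Over an affine base: ampleness descends.** -/
theorem isAmple_of_pb {R : Type u} [CommRing R] [IsNoetherianRing R] {X' X : Scheme.{u}}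
    (q : X ⟶ Spec (CommRingCat.of R)) [LocallyOfFiniteType q] [IsSeparated q] [QuasiCompact q]
    (g : X' ⟶ X) [IsFinite g] [Surjective g] (Z : Set X) (hZ : ClSub.IsProperOver q Z)
    (hgood : ∀ x, x ∉ Z → GoodAt g x) {L : X.Modules} (hL : PicF.IsInvertible L)
    (hA : CohB1.IsAmple (pb g L)) : CohB1.IsAmple L := by
  haveI : IsLocallyNoetherian X := LocallyOfFiniteType.isLocallyNoetherian q
  let Xr := X.nilradical.subscheme
  let i : Xr ⟶ X := X.nilradical.subschemeι
  haveI : IsReduced Xr := GeomRedFieldLib.isReduced_nilradical X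
  haveI : IsLocallyNoetherian Xr := LocallyOfFiniteType.isLocallyNoetherian (i ≫ q)
  haveI : CompactSpace Xr := QuasiCompact.compactSpace_of_compactSpace (i ≫ q)
  haveI : IsNoetherian Xr := {}
  have hi : IsHomeomorph i := by
    refine isHomeomorph_iff_isEmbedding_surjective.mpr ⟨i.isClosedEmbedding.isEmbedding, ?_⟩
    rw [← Set.range_eq_univ, Scheme.IdealSheafData.range_subschemeι, Scheme.support_nilradical]
    rfl
  refine MiscFlat6.isAmple_of_isAmple_pb_homeomorph i hi hL ?_
  let gr : pullback g i ⟶ Xr := pullback.snd g i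
  haveI : IsFinite gr := inferInstance
  haveI : Surjective gr := inferInstance
  have hLr := AmpleDevLib.isInvertible_pb i hL
  have hAr : CohB1.IsAmple (pb gr (pb i L)) := by
    have hLg := AmpleDevLib.isInvertible_pb g hL
    exact AmpleDevLib.isAmple_of_iso (AmpleDevLib.isInvertible_pb _ hLg) (AmpleDevLib.isInvertible_pb _ hLr)
      (((Scheme.Modules.pullbackComp (pullback.fst g i) g).app L) ≪≫
        ((Scheme.Modules.pullbackCongr pullback.condition).app L) ≪≫
        ((Scheme.Modules.pullbackComp gr i).app L).symm) (AmpleDevLib.isAmple_pb (pullback.fst g i) hLg hA)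
  -- the proper subset
  have hZr : ClSub.IsProperOver (i ≫ q) (i ⁻¹' Z) := by
    obtain ⟨T, j, hj, hjr, hjp⟩ := ProperOverLib.exists_closedImmersion hZ
    have hr : Set.range (pullback.snd j i) = i ⁻¹' Z := by rw [Scheme.Pullback.range_snd, hjr]
    haveI : IsProper (pullback.snd j i ≫ i ≫ q) := by
      rw [← pullback.condition_assoc]
      infer_instance
    exact hr ▸ ProperOverLib.of_map_range (pullback.snd j i) (i ≫ q)
  let W : Xr.Opens := ⟨(i ⁻¹' Z)ᶜ, hZr.1.isOpen_compl⟩
  have hW : ∀ z ∈ W, (IsDomain (Xr.presheaf.stalk z) ∧ IsIntegrallyClosed (Xr.presheaf.stalk z)) ∨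
      ∃ (D : Xr.Opens) (n : ℕ), IsAffineOpen D ∧ z ∈ D ∧ HasBasis (gr.app D).hom n := fun z hz => by
    rcases hgood (i z) hz with h | ⟨D, n, hD, hzD, hb⟩
    · haveI := h.1
      exact Or.inl (good_transfer (RingEquiv.ofBijective (i.stalkMap z).hom (bijective_stalkMap_nilradical z)) h)
    · exact Or.inr (exists_hasBasis_pullback g i hD hzD hb)
  obtain ⟨Z1, hred, h, hfin, hiso, ⟨V, hVd, -, hViso⟩, hamp⟩ := NormModelLib.exists_model gr W hW
  haveI := hfin
  haveI : Surjective h := by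
    refine ⟨Set.range_eq_univ.mp (Set.eq_univ_of_univ_subset ?_)⟩
    rw [← hVd.closure_eq]
    refine closure_minimal (fun y hy => ?_) h.isClosedMap.isClosed_range
    obtain ⟨w, hw⟩ := (h ∣_ V).surjective ⟨y, hy⟩
    exact ⟨(h ⁻¹ᵁ V).ι w, by rw [← Scheme.Hom.comp_apply, ← morphismRestrict_ι, Scheme.Hom.comp_apply, hw]; rfl⟩
  exact isAmple_of_finite_birational h (i ≫ q) (i ⁻¹' Z) hZr hiso hLr (hamp _ hLr hAr)

/-- **Relative ampleness descends.** -/
theorem relAmple_iff_pb {X' X Y : Scheme.{u}} (f : X ⟶ Y) [IsLocallyNoetherian Y] [LocallyOfFiniteType f]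
    [QuasiCompact f] (g : X' ⟶ X) [IsFinite g] [Surjective g] {L : X.Modules} (hL : PicF.IsInvertible L)
    (Z : Set X) (hZ : ClSub.IsProperOver f Z)
    (hreg : ∀ x : X, x ∉ Z → (IsDomain (X.presheaf.stalk x) ∧ IsIntegrallyClosed (X.presheaf.stalk x)) ∨
      Module.Free (X.presheaf.stalk x) (((Coh.push g).obj (Coh.structureModule X')).presheaf.stalk x)) :
    RelAmple.IsRelAmple f L ↔ RelAmple.IsRelAmple (g ≫ f) (pb g L) := by
  refine ⟨NormDescLib.relAmple_pb g f, fun hR => ?_⟩
  haveI : IsSeparated (g ≫ f) := MiscFlat6.isSeparated_of_isRelAmple _ hR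
  haveI : IsSeparated f := ProperOverLib.isSeparated_of_comp_surjective g f
  haveI : IsLocallyNoetherian X := LocallyOfFiniteType.isLocallyNoetherian f
  refine MiscFlat6.isRelAmple_of_local f fun _ => ⟨⊤, trivial, fun V hV _ => ?_⟩
  let U := f ⁻¹ᵁ V
  haveI := IsLocallyNoetherian.component_noetherian (X := Y) ⟨V, hV⟩
  haveI : IsFinite (g ∣_ U) := IsZariskiLocalAtTarget.restrict ‹IsFinite g› U
  haveI : Surjective (g ∣_ U) := IsZariskiLocalAtTarget.restrict ‹Surjective g› U
  haveI : LocallyOfFiniteType (f ∣_ V) := IsZariskiLocalAtTarget.restrict ‹LocallyOfFiniteType f› V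
  haveI : IsSeparated (f ∣_ V) := IsZariskiLocalAtTarget.restrict ‹IsSeparated f› V
  haveI : QuasiCompact (f ∣_ V) := IsZariskiLocalAtTarget.restrict ‹QuasiCompact f› V
  let q : U.toScheme ⟶ Spec (CommRingCat.of Γ(Y, V)) := (f ∣_ V) ≫ hV.isoSpec.hom
  have hZU : ClSub.IsProperOver q (U.ι ⁻¹' Z) := by
    obtain ⟨T, j, hj, hjr, hjp⟩ := ProperOverLib.exists_closedImmersion hZ
    have hr : Set.range (pullback.snd j U.ι) = U.ι ⁻¹' Z := by rw [Scheme.Pullback.range_snd, hjr]
    let k := pullback.snd j U.ι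
    have hsq : IsPullback (pullback.fst j U.ι) (k ≫ (f ∣_ V)) (j ≫ f) V.ι :=
      (IsPullback.of_hasPullback j U.ι).paste_vert (isPullback_morphismRestrict f V).flip
    haveI : IsProper (k ≫ (f ∣_ V)) := MorphismProperty.of_isPullback hsq hjp
    haveI : IsProper (k ≫ q) := by
      show IsProper (k ≫ (f ∣_ V) ≫ hV.isoSpec.hom)
      rw [← Category.assoc]
      infer_instance
    exact hr ▸ ProperOverLib.of_map_range k q
  have hgood : ∀ x : U.toScheme, x ∉ U.ι ⁻¹' Z → GoodAt (g ∣_ U) x := fun x hx => by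
    rcases hreg (U.ι x) hx with h | h
    · exact Or.inl (good_transfer (U.stalkIso x).symm.commRingCatIsoToRingEquiv h)
    · obtain ⟨D, n, hD, hxD, hb⟩ := exists_hasBasis_of_free_stalk g (U.ι x) h
      obtain ⟨r, hrU, hxr⟩ := hD.exists_basicOpen_le (V := U) ⟨U.ι x, x.2⟩ hxD
      have himg : U.ι ''ᵁ (U.ι ⁻¹ᵁ X.basicOpen r) = X.basicOpen r := by
        rw [Scheme.Hom.image_preimage_eq_opensRange_inf, Scheme.Opens.opensRange_ι, inf_eq_right.mpr hrU]
      refine Or.inr ⟨U.ι ⁻¹ᵁ X.basicOpen r, n, ?_, hxr, NormDescLib.hasBasis_restrict g U _ ?_⟩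
      · rw [← U.ι.isAffineOpen_iff_of_isOpenImmersion, himg]
        exact hD.basicOpen r
      · rw [himg]
        exact (NormDescLib.FreeOn.basic g (d := n) hD r hb).1
  have hL' := AmpleThLib.restrict_isInvertible hL U.ι
  refine isAmple_of_pb q (g ∣_ U) _ hZU hgood hL' ?_
  have h1 : CohB1.IsAmple ((pb g L).restrict (g ⁻¹ᵁ U).ι) := hR.2 ⟨V, hV⟩
  exact AmpleDevLib.isAmple_of_iso h1.1 (AmpleDevLib.isInvertible_pb (g ∣_ U) hL')
    (NormDescLib.restrictPbIso g L U).symm h1

end AmpleFinDescLib
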